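import Cfsg.Agent.H120.Level
import Cfsg.Agent.S0141
set_option linter.all false

/-!
# The central character of a root element

* `dvd_of_char` : `χ(z) = χ(1) - c`, `K ≤ C(z)` ⇒ `χ(1) |K| ∣ |G| c`;
* `Sys.trace` : the trace of a root element.
-/

set_option autoImplicit false
set_option linter.unusedSectionVars false

namespace Cfsg.Agent.H120

open Module Cfsg.Agent.OddHalf.SL.Defs

theorem dvd_of_char {G : Type*} [Group G] [Finite G] {V : Type*} [AddCommGroup V] [Module ℂ V]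
    [FiniteDimensional ℂ V] (ρ : Representation ℂ G V) [ρ.IsIrreducible] (hd : 0 < finrank ℂ V) (z : G) (c : ℕ)
    (hz : ρ.character z = (finrank ℂ V : ℂ) - c) (K : Subgroup G) (hK : K ≤ Subgroup.centralizer {z}) :
    finrank ℂ V * Nat.card K ∣ Nat.card G * c := by
  have h1 := Cfsg.Agent.S0141.result ρ z
  rw [hz] at h1
  set t := (Subgroup.centralizer ({z} : Set G)).index with ht
  set n := finrank ℂ V with hn
  have hdC : (n : ℂ) ≠ 0 := by exact_mod_cast hd.ne'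
  set N : ℤ := (t : ℤ) * ((n : ℤ) - (c : ℤ)) with hN
  have h4 : (t : ℂ) * ((n : ℂ) - c) = (N : ℂ) := by
    rw [hN]; push_cast; ring
  rw [h4] at h1
  have h5 : ((N : ℂ) / (n : ℂ)) = (((N : ℚ) / (n : ℚ) : ℚ) : ℂ) := by push_cast; rfl
  rw [h5] at h1
  have h6 : IsIntegral ℤ ((N : ℚ) / (n : ℚ)) := by
    have := (isIntegral_algebraMap_iff (R := ℤ) (A := ℚ) (B := ℂ) (algebraMap ℚ ℂ).injective
      (x := (N : ℚ) / (n : ℚ))).1
    exact this h1
  obtain ⟨y, hy⟩ := IsIntegrallyClosed.isIntegral_iff.1 h6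
  have hy : (y : ℚ) = (N : ℚ) / (n : ℚ) := by simpa using hy
  have hdQ : (n : ℚ) ≠ 0 := by exact_mod_cast hd.ne'
  have h7 : (y * (n : ℤ) : ℤ) = N := by
    have : (y : ℚ) * (n : ℚ) = N := by rw [hy]; field_simp
    exact_mod_cast this
  have h8 : (n : ℤ) ∣ N := ⟨y, by rw [← h7]; ring⟩
  have h9 : ((t * c : ℕ) : ℤ) = t * (n : ℤ) - N := by
    rw [hN]; push_cast; ring
  have h10 : (n : ℤ) ∣ ((t * c : ℕ) : ℤ) := by
    rw [h9]
    exact dvd_sub (Dvd.intro_left _ rfl) h8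
  have h11 : n ∣ t * c := by exact_mod_cast h10
  obtain ⟨b, hb⟩ := Subgroup.card_dvd_of_le hK
  have h12 := Subgroup.card_mul_index (Subgroup.centralizer ({z} : Set G))
  rw [← ht, hb] at h12
  obtain ⟨a, ha⟩ := h11
  refine ⟨a * b, ?_⟩
  rw [← h12]
  calc Nat.card K * b * t * c = Nat.card K * b * (t * c) := by ring
    _ = _ := by rw [ha]; ring

variable {L : Type*} [AddCommGroup L] {F : Type*} [Field F] [Fintype F]
  {V : Type*} [AddCommGroup V] [Module ℂ V] [FiniteDimensional ℂ V]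
  {B : L → L → ℤ} {Φ : Set L} {x : L → F → Module.End ℂ V}

/-- the trace of a root element -/
theorem Sys.trace (H : Sys B Φ x) {r : L} (hr : r ∈ Φ) {n : ℕ}
    (h : ∀ ψ : AddChar F ℂ, ψ ≠ 0 → finrank ℂ (wt x r ψ) = n) :
    LinearMap.trace ℂ V (x r 1) = (finrank ℂ V : ℂ) - (Fintype.card F * n : ℕ) := by
  classical
  have h1 := (H.act hr).trace_eq 1
  have h2 := (H.act hr).sum_finrank_wt
  have h3 : ∀ ψ : AddChar F ℂ, finrank ℂ ((H.act hr).wt ψ) = finrank ℂ (wt x r ψ) := fun ψ => rfl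
  simp only [h3] at h1 h2
  have h4 : (H.act hr).toFun 1 = x r 1 := rfl
  rw [h4] at h1
  rw [h1, h2]
  have h5 : ∀ ψ : AddChar F ℂ, (ψ 1 * (finrank ℂ (wt x r ψ) : ℂ)) =
      ψ 1 * (n : ℂ) + (if ψ = 0 then ((finrank ℂ (wt x r 0) : ℂ) - n) else 0) := by
    intro ψ
    by_cases hψ : ψ = 0
    · subst hψ
      rw [if_pos rfl, AddChar.zero_apply]
      ring
    · rw [if_neg hψ, h ψ hψ, add_zero]
  have h6 : ∀ ψ : AddChar F ℂ, ((finrank ℂ (wt x r ψ) : ℕ) : ℂ) =
      (n : ℂ) + (if ψ = 0 then ((finrank ℂ (wt x r 0) : ℂ) - n) else 0) := by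
    intro ψ
    by_cases hψ : ψ = 0
    · subst hψ
      rw [if_pos rfl]
      ring
    · rw [if_neg hψ, h ψ hψ, add_zero]
  have h7 : ∑ ψ : AddChar F ℂ, ψ (1 : F) = 0 := by
    have := AddChar.sum_apply_eq_ite (1 : F)
    rw [if_neg one_ne_zero] at this
    exact this
  rw [Finset.sum_congr rfl (fun ψ _ => h5 ψ), Finset.sum_add_distrib, ← Finset.sum_mul, h7, zero_mul, zero_add]
  push_cast
  rw [Finset.sum_congr rfl (fun ψ _ => h6 ψ), Finset.sum_add_distrib, Finset.sum_const, Finset.card_univ,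
    AddChar.card_eq, nsmul_eq_mul]
  ring

end Cfsg.Agent.H120
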