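import Cfsg.Agent.H120.SLHom
import Cfsg.Agent.H120.Central
import Cfsg.Agent.S1054
set_option linter.all false

/-!
# Representations of Chevalley groups: nontrivial root operators, levels, the centre of `SL 6 F`
-/

set_option autoImplicit false
set_option linter.unusedSectionVars false

namespace Cfsg.Agent.H120.Common

open Module Matrix Cfsg.Lie Cfsg.Agent.ChevalleyStructure.Elts Cfsg.Agent.ChevalleyStructure.RootVec
  Cfsg.Agent.ChevalleyStructure.RootVecTab Cfsg.Agent.ChevalleyStructure.CoxeterGeomTypes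
  Cfsg.Agent.Nodes.RGDChev Cfsg.Agent.KFacts.En.Roots Cfsg.Agent.H120.ChevSys Cfsg.Agent.H120.LevTab
  Cfsg.Agent.H120.LevMath Cfsg.Agent.H120.SLHom Cfsg.Agent.H120.Gram Cfsg.Agent.H120.GramTab
  Cfsg.Agent.H120.LevInst Cfsg.Agent.OddHalf.SL.Defs

universe u

theorem PhiZ_nil (D : ChevalleyDatum) (l : ℕ) : PhiZ D l [] = Phi D l := by
  ext x
  simp [PhiZ]

section

variable {D : ChevalleyDatum} {l : ℕ} {M : CoxeterMatrix (Fin l)} (hp : Ty D l M) {F : Type u} [Field F]
  {V : Type*} [AddCommGroup V] [Module ℂ V]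

theorem sysZ (Z : List ℕ) (ρ : Representation ℂ ↥(D.group F) V) :
    Sys (bf D l) (PhiZ D l Z) (fun v (a : F) => ρ (XX hp v a)) where
  zero := fun r hr => (sys hp ρ).zero r hr.1
  add := fun r hr => (sys hp ρ).add r hr.1
  comm0 := fun r hr s hs => (sys hp ρ).comm0 r hr.1 s hs.1
  comm1 := fun r hr s hs => (sys hp ρ).comm1 r hr.1 s hs.1

/-- a nontrivial representation has a nontrivial root operator -/
theorem moves [Fintype F] [FiniteDimensional ℂ V] (ρ : Representation ℂ ↥(D.group F) V) (h : ∃ g, ρ g ≠ 1) :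
    Moves (fun v (a : F) => ρ (XX hp v a)) (Phi D l) := by
  obtain ⟨g, hg⟩ := h
  have h1 : ∃ r < D.nroots, ∃ a : F, ρ (XX hp (vec D l r) a) ≠ 1 := by
    by_contra hc
    push Not at hc
    apply hg
    have h2 : D.group F ≤ (MonoidHom.ker ρ).map (D.group F).subtype := by
      rw [group_le_iff hp.ty.inList]
      intro r hr t
      refine ⟨XX hp (vec D l r) t, hc r hr t, ?_⟩
      exact XG_vec hp hr t
    obtain ⟨k, hk, hk'⟩ := h2 g.2
    have h3 : k = g := Subtype.ext hk'
    rw [← h3]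
    exact hk
  obtain ⟨r, hr, a, ha⟩ := h1
  have h2 : ∃ a v, ((sys hp ρ).act (vec_mem hr)).toFun a v ≠ v := by
    by_contra hc
    push Not at hc
    apply ha
    ext v
    exact hc a v
  obtain ⟨ψ, hψ, h3⟩ := AddAct.exists_wt_ne _ h2
  rw [Submodule.ne_bot_iff] at h3
  obtain ⟨v, hv, hv0⟩ := h3
  exact ⟨_, vec_mem hr, ψ, hψ, v, hv0, hv⟩

end

/-- the order of the centre of `SL 6 F` -/
theorem card_center_dvd {F : Type u} [Field F] [Fintype F] (K : Subgroup (SpecialLinearGroup (Fin 6) F))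
    (hK : K ≤ Subgroup.center (SpecialLinearGroup (Fin 6) F)) :
    Nat.card K ∣ 6 ∧ Nat.card K ∣ Fintype.card F - 1 := by
  classical
  have h1 := Subgroup.card_dvd_of_le hK
  have e := Matrix.SpecialLinearGroup.center_equiv_rootsOfUnity (n := Fin 6) (R := F)
  have h2 : Nat.card (Subgroup.center (SpecialLinearGroup (Fin 6) F)) = Nat.card (rootsOfUnity 6 F) := by
    have h3 := Nat.card_congr e.toEquiv
    have h4 : max (Fintype.card (Fin 6)) 1 = 6 := by simp
    rw [h4] at h3
    exact h3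
  rw [h2] at h1
  constructor
  · refine h1.trans ?_
    have : IsCyclic (rootsOfUnity 6 F) := inferInstance
    rw [← IsCyclic.exponent_eq_card]
    refine Monoid.exponent_dvd_of_forall_pow_eq_one fun g => ?_
    apply Subtype.ext
    exact g.2
  · refine h1.trans ?_
    have h3 := Subgroup.card_subgroup_dvd_card (rootsOfUnity 6 F)
    rwa [Nat.card_units, Nat.card_eq_fintype_card (α := F)] at h3

end Cfsg.Agent.H120.Common
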