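import Cfsg.Agent.H120.GOtherE
set_option linter.all false

/-!
# `G₂(q)`, `q` prime to three: the minimal degree (final part)
-/

set_option autoImplicit false
set_option linter.unusedSectionVars false

namespace Cfsg.Agent.H120.GTwo

open Module Matrix Cfsg.Lie Cfsg.Agent.H120 Cfsg.Agent.H120.Hx Cfsg.Agent.AGraded Cfsg.Agent.TitsThree.KExcRT
open Cfsg.Agent.H118.SLInt Cfsg.Agent.H118.SLWt Cfsg.Agent.H118.SLTrans

universe u

variable {F : Type u} [Field F] [Fintype F] {V : Type*} [AddCommGroup V] [Module ℂ V] [FiniteDimensional ℂ V]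

/-- a primitive cube root of unity -/
theorem exists_omega (h : Fintype.card F % 3 = 1) : ∃ ω : F, ω ≠ 1 ∧ ω ^ 3 = 1 := by
  classical
  have h1 : 3 ∣ Nat.card Fˣ := by
    rw [Nat.card_units, Nat.card_eq_fintype_card]
    omega
  have : Fact (Nat.Prime 3) := ⟨Nat.prime_three⟩
  obtain ⟨x, hx⟩ := exists_prime_orderOf_dvd_card' 3 h1
  refine ⟨(x : F), ?_, ?_⟩
  · intro h
    have : x = 1 := Units.ext h
    rw [this, orderOf_one] at hx
    omega
  · have h2 : x ^ 3 = 1 := by rw [← hx, pow_orderOf_eq_one]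
    have := congrArg Units.val h2
    simpa using this

theorem center_bot (hF : ∃ a : F, a ≠ 0 ∧ a ≠ 1) : Subgroup.center ↥(chevG2.group F) = ⊥ := by
  obtain ⟨hs, hnc⟩ := Cfsg.Agent.S1055.result hF
  have hn : (Subgroup.center ↥(chevG2.group F)).Normal := inferInstance
  rcases hn.eq_bot_or_eq_top with h | h
  · exact h
  · exfalso
    apply hnc
    refine ⟨⟨fun a b => ?_⟩⟩
    have hb : b ∈ Subgroup.center ↥(chevG2.group F) := by rw [h]; exact Subgroup.mem_top b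
    exact (Subgroup.mem_center_iff.1 hb a)

/-- no fixed line: the case `f0 = 0` -/
theorem case_zero (hq : 7 ≤ Fintype.card F) (h3 : Fintype.card F % 3 = 1) (ρ : Representation ℂ ↥(chevG2.group F) V)
    [ρ.IsIrreducible] {ε μ : ℂ} (hε : ε ^ 3 = 1) (hμ : μ ^ 3 = 1) {c : ↥(chevG2.group F)}
    (hc : Kc XX ≤ Subgroup.centralizer {c})
    (hχ : ρ.character c = ((Fintype.card F : ℂ) ^ 2 - 1) * ε + ((Fintype.card F : ℂ) - 1) * μ)
    (hN : finrank ℂ V = Fintype.card F ^ 3 - 1) : False := by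
  have h1 := Cfsg.Agent.S0141.result ρ c
  set q := Fintype.card F with hq'
  obtain ⟨a, ha⟩ := Subgroup.card_dvd_of_le hc
  obtain ⟨b, hb⟩ := card_Kc F
  have h2 := Subgroup.card_mul_index (Subgroup.centralizer ({c} : Set ↥(chevG2.group F)))
  set t := (Subgroup.centralizer ({c} : Set ↥(chevG2.group F))).index with ht
  rw [Cfsg.Agent.S1059.result (F := F) rfl] at h2
  have h4 := card_SL3 F
  have hq1 : 1 ≤ q ^ 3 := Nat.one_le_pow _ _ (by omega)
  have h5 : q ^ 6 - 1 = (q ^ 3 - 1) * (q ^ 3 + 1) := by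
    have : (q ^ 3 - 1) * (q ^ 3 + 1) + 1 = q ^ 6 := by
      obtain ⟨s, hs⟩ : ∃ s, q ^ 3 = s + 1 := ⟨q ^ 3 - 1, by omega⟩
      have e : q ^ 6 = (q ^ 3) ^ 2 := by ring
      rw [e, hs, Nat.add_sub_cancel]
      ring
    omega
  have hpos : 0 < q ^ 3 * ((q ^ 2 - 1) * (q ^ 3 - 1)) := by
    have h6 : 1 < q ^ 2 := Nat.one_lt_pow (by norm_num) (by omega)
    have h7 : 1 < q ^ 3 := Nat.one_lt_pow (by norm_num) (by omega)
    have h8 : 0 < q ^ 3 := by omega
    exact Nat.mul_pos h8 (Nat.mul_pos (by omega) (by omega))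
  -- `t b a = 3 q³ (q³ + 1)`
  have h6 : t * (b * a) = 3 * (q ^ 3 * (q ^ 3 + 1)) := by
    apply Nat.eq_of_mul_eq_mul_left hpos
    calc q ^ 3 * ((q ^ 2 - 1) * (q ^ 3 - 1)) * (t * (b * a))
        = (Nat.card (SpecialLinearGroup (Fin 3) F) * b) * a * t := by rw [h4]; ring
      _ = 3 * ((Nat.card (Kc (XX : ZMod 12 → F → ↥(chevG2.group F))) * a) * t) := by rw [← hb]; ring
      _ = 3 * (q ^ 6 * (q ^ 2 - 1) * (q ^ 6 - 1)) := by rw [← ha, h2]
      _ = _ := by rw [h5]; ring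
  have h7 := (isIntegral_natCast (R := ℤ) (B := ℂ) (b * a)).mul h1
  rw [hχ, hN] at h7
  refine GArith.arith_c hq h3 hε hμ ?_
  have e : ((b * a : ℕ) : ℂ) * ((t : ℂ) * (((q : ℂ) ^ 2 - 1) * ε + ((q : ℂ) - 1) * μ) / ((q ^ 3 - 1 : ℕ) : ℂ)) =
      (3 * ((q : ℂ) ^ 3 * ((q : ℂ) ^ 3 + 1))) * ((((q : ℂ) ^ 2 - 1) * ε + ((q : ℂ) - 1) * μ) / ((q : ℂ) ^ 3 - 1)) := by
    have h8 : ((t * (b * a) : ℕ) : ℂ) = ((3 * (q ^ 3 * (q ^ 3 + 1)) : ℕ) : ℂ) := by rw [h6]
    push_cast at h8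
    rw [Nat.cast_sub hq1]
    push_cast
    rw [← h8]
    ring
  rw [← e]
  exact h7

/-- the case `f0 = 1` -/
theorem case_one (hq : 7 ≤ Fintype.card F) (ρ : Representation ℂ ↥(chevG2.group F) V) {ψ : AddChar F ℂ} (hψ : ψ ≠ 0)
    {W : Submodule ℂ V} {d : ℕ} (hW : ∀ g ∈ Kc XX, ∀ v ∈ W, ρ g v ∈ W)
    (hirr : ∀ S S' : Submodule ℂ V, S ≤ W → S' ≤ W → (∀ g ∈ Kc XX, ∀ v ∈ S, ρ g v ∈ S) →
      (∀ g ∈ Kc XX, ∀ v ∈ S', ρ g v ∈ S') → S ⊓ S' = ⊥ → S ⊔ S' = W → S = ⊥ ∨ S = W)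
    (hd1 : 1 ≤ d) (hdq : d < Fintype.card F)
    (hdim : finrank ℂ W = (Fintype.card F ^ 2 - 1) * d + Fintype.card F)
    (hw : ∀ z : F, z ≠ 0 → finrank ℂ (W ⊓ Wk XX ρ ψ 3 z : Submodule ℂ V) = Fintype.card F * d) : False := by
  classical
  obtain ⟨π, hπ, hr, _⟩ := exists_pi F
  have hπm : ∀ g, π g ∈ Kc XX := fun g => by rw [← hr]; exact ⟨g, rfl⟩
  let σ : Representation ℂ (SpecialLinearGroup (Fin 3) F) W :=
    subRep (ρ.comp π) W (fun g v hv => hW _ (hπm g) v hv)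
  have hσ : ∀ g (v : W), (σ g v : V) = ρ (π g) v := fun g v => rfl
  have hWpos : 0 < finrank ℂ W := by omega
  have hWnt : Nontrivial W := Module.nontrivial_of_finrank_pos hWpos
  -- irreducibility
  have hσirr : σ.IsIrreducible := by
    have hbt : (⊥ : Subrepresentation σ) ≠ ⊤ := by
      intro h
      have h1 : (⊥ : Submodule ℂ W) = ⊤ := congrArg Subrepresentation.toSubmodule h
      exact bot_ne_top h1
    have hnt : Nontrivial (Subrepresentation σ) := ⟨⟨⊥, ⊤, hbt⟩⟩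
    refine { exists_pair_ne := hnt.exists_pair_ne, eq_bot_or_eq_top := fun S => ?_ }
    have hcl : ComplementedLattice (Subrepresentation σ) :=
      (inferInstance : Representation.IsSemisimpleRepresentation σ)
    obtain ⟨S', hS'⟩ := exists_isCompl S
    set M := S.toSubmodule.map W.subtype with hM
    set M' := S'.toSubmodule.map W.subtype with hM'
    have hinv : ∀ (T : Subrepresentation σ), ∀ g ∈ Kc XX, ∀ v ∈ T.toSubmodule.map W.subtype,
        ρ g v ∈ T.toSubmodule.map W.subtype := by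
      rintro T g hg _ ⟨v, hv, rfl⟩
      rw [← hr] at hg
      obtain ⟨g', rfl⟩ := hg
      exact ⟨σ g' v, T.apply_mem_toSubmodule g' hv, rfl⟩
    have hle : ∀ (T : Subrepresentation σ), T.toSubmodule.map W.subtype ≤ W := fun T => Submodule.map_subtype_le _ _
    have h1 : M ⊓ M' = ⊥ := by
      rw [hM, hM', ← Submodule.map_inf _ W.injective_subtype]
      have h2 : S.toSubmodule ⊓ S'.toSubmodule = ⊥ := congrArg Subrepresentation.toSubmodule hS'.inf_eq_bot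
      rw [h2, Submodule.map_bot]
    have h2 : M ⊔ M' = W := by
      rw [hM, hM', ← Submodule.map_sup]
      have h3 : S.toSubmodule ⊔ S'.toSubmodule = ⊤ := congrArg Subrepresentation.toSubmodule hS'.sup_eq_top
      rw [h3, Submodule.map_top, Submodule.range_subtype]
    rcases hirr M M' (hle S) (hle S') (hinv S) (hinv S') h1 h2 with h3 | h3
    · left
      apply Subrepresentation.toSubmodule_injective
      rw [hM] at h3
      have h6 : S.toSubmodule = ⊥ := by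
        rw [eq_bot_iff]
        intro v hv
        have h5 : (v : V) ∈ (⊥ : Submodule ℂ V) := by
          rw [← h3]
          exact ⟨v, hv, rfl⟩
        rw [Submodule.mem_bot] at h5 ⊢
        exact Subtype.ext h5
      rw [h6]
      rfl
    · right
      apply Subrepresentation.toSubmodule_injective
      have h4 : S.toSubmodule = ⊤ := by
        rw [eq_top_iff]
        intro v _
        have h5 : (v : V) ∈ M := by rw [h3]; exact v.2
        obtain ⟨w, hw, hwv⟩ := h5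
        have : w = v := Subtype.ext hwv
        rwa [← this]
      rw [h4]
      rfl
  -- the character at a transvection
  have hIv : Iv XX ρ W 3 := fun a v hv => hW _ (mem_Kc (by decide) a) v hv
  have htr := trace_X_sub (X := (XX : ZMod 12 → F → ↥(chevG2.group F))) hexa hψ 3 hIv hw
  have h02 : (0 : Fin 3) ≠ 2 := by decide
  have hchar : σ.character (SpecialLinearGroup.transvection h02 (1 : F)) =
      (finrank ℂ W : ℂ) - ((Fintype.card F * (Fintype.card F * d) : ℕ) : ℂ) := by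
    rw [← htr]
    have e : σ (SpecialLinearGroup.transvection h02 (1 : F)) = (ρ (XX 3 1)).restrict (hIv 1) := by
      ext v
      rw [hσ, hπ 0 2 h02]
      rfl
    show LinearMap.trace ℂ W (σ _) = _
    rw [e]
  obtain ⟨b, hB⟩ := exists_hasB σ (by simp)
  have hchar2 := HasB.cf_char hB (2 : Fin 3) (Pi.single ⟨0, h02⟩ (1 : F)) (by
    intro h
    have := congrFun h ⟨0, h02⟩
    rw [Pi.single_eq_same] at this
    exact one_ne_zero this)
  rw [← Cfsg.Agent.H118.SLFinal.transvection_eq h02 (1 : F), hchar] at hchar2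
  have hq0 : (Fintype.card F : ℂ) ≠ 0 := by exact_mod_cast (by omega : Fintype.card F ≠ 0)
  have hbd : b = d := by
    have h1 : ((Fintype.card F * (Fintype.card F * d) : ℕ) : ℂ) = (Fintype.card F : ℂ) ^ (Fintype.card (Fin 3) - 1) * b :=
      sub_right_inj.1 hchar2
    have h2 : Fintype.card (Fin 3) - 1 = 2 := rfl
    rw [h2] at h1
    push_cast at h1
    have h3 : (Fintype.card F : ℂ) ^ 2 * (d : ℂ) = (Fintype.card F : ℂ) ^ 2 * b := by rw [← h1]; ring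
    have h4 := mul_left_cancel₀ (pow_ne_zero 2 hq0) h3
    exact_mod_cast h4.symm
  subst hbd
  obtain ⟨T, hT1, hT2⟩ := dvd_of_hasB σ hB
  have h2 : Fintype.card (Fin 3) - 1 = 2 := rfl
  have h3' : Fintype.card (Fin 3) = 3 := rfl
  rw [h2] at hT1 hT2
  rw [h3'] at hT1
  set q := Fintype.card F with hq'
  have hT : T = (q ^ 2 + q + 1) * (q ^ 2 - 1) := by
    have h4 : 0 < q - 1 := by omega
    apply Nat.eq_of_mul_eq_mul_right h4
    rw [hT1]
    have h5 : q ^ 3 - 1 = (q - 1) * (q ^ 2 + q + 1) := by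
      obtain ⟨s, hs⟩ : ∃ s, q = s + 1 := ⟨q - 1, by omega⟩
      rw [hs, Nat.add_sub_cancel]
      have : (s + 1) ^ 3 = s * ((s + 1) ^ 2 + (s + 1) + 1) + 1 := by ring
      omega
    rw [h5]
    ring
  have hdvd : finrank ℂ W ∣ (q ^ 2 + q + 1) * (q ^ 2 - 1) * (q ^ 2 * b) := by
    rw [← hT]
    have : ((finrank ℂ W : ℕ) : ℤ) ∣ ((T * (q ^ 2 * b) : ℕ) : ℤ) := by
      push_cast at hT2 ⊢
      exact hT2
    exact_mod_cast this
  obtain ⟨p, hp⟩ := CharP.exists F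
  obtain ⟨n, hp', hn⟩ := FiniteField.card F p
  exact GArith.arith_line hp' hn (by omega) hd1 hdq hdim hdvd

/-- **the minimal degree, characteristic prime to three** -/
theorem main_other (hp : (3 : F) ≠ 0) (hq : 4 < Fintype.card F) (ρ : Representation ℂ ↥(chevG2.group F) V)
    (hρ : ρ.IsIrreducible) (h2 : 2 ≤ finrank ℂ V) :
    (Fintype.card F % 3 = 1 → Fintype.card F ^ 3 + 1 ≤ finrank ℂ V) ∧ Fintype.card F ^ 3 - 1 ≤ finrank ℂ V := by
  classical
  have hF := exists_ne F (by omega)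
  have H : HexaN (XX : ZMod 12 → F → ↥(chevG2.group F)) := hexaN hp
  obtain ⟨ψ, hψ⟩ : ∃ ψ : AddChar F ℂ, ψ ≠ 0 := by
    obtain ⟨ζ, hζ⟩ := exists_zeta F
    exact ⟨ζ, fun h => hζ (by rw [h, AddChar.zero_apply])⟩
  have hne := exists_ne_one ρ hρ h2
  have hX := moves hF ρ hne 3
  obtain ⟨D, f, hD⟩ := exists_D (ρ := ρ) H.toHexa hψ
  set q := Fintype.card F with hq'
  -- `D = q n`
  obtain ⟨n, hn⟩ : ∃ n, D = q * n := by
    refine ⟨finrank ℂ (Wk XX ρ ψ 1 1 ⊓ Wk XX ρ ψ 3 1 ⊓ Wk XX ρ ψ 2 0 : Submodule ℂ V), ?_⟩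
    have h1 := DN (ρ := ρ) H hψ (y := 1) (z := 1) (Or.inl one_ne_zero) 0
    rw [← h1]
    exact ((hD 1 (by decide)).1 1 1 (Or.inl one_ne_zero)).symm
  have hn1 : 1 ≤ n := by
    by_contra hcon
    have h0 : n = 0 := by omega
    rw [h0, mul_zero] at hn
    have h1 : (⊤ : Submodule ℂ V) ≤ Wk XX ρ ψ 3 0 := by
      refine le_zero H.toHexa hψ (fun c v _ => Submodule.mem_top) fun z hz => ?_
      rw [top_inf_eq, ← Submodule.finrank_eq_zero, (hD 3 (by decide)).2.1 z hz, hn, mul_zero]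
    obtain ⟨a, ha⟩ := hX
    apply ha
    ext v
    rw [Module.End.one_apply]
    exact mem_Wk0.1 (h1 Submodule.mem_top) a
  have hN := (hD 1 (by decide)).2.2.2
  -- `f = f0 + (q - 1) m`
  set f0 := finrank ℂ (Wk XX ρ ψ 1 0 ⊓ Wk XX ρ ψ 3 0 ⊓ Wk XX ρ ψ 5 0 : Submodule ℂ V) with hf0
  set m := finrank ℂ (Wk XX ρ ψ 1 0 ⊓ Wk XX ρ ψ 3 0 ⊓ Wk XX ρ ψ 5 1 : Submodule ℂ V) with hm
  have hff : f = (q - 1) * m + f0 := by
    have h1 : finrank ℂ (Wk XX ρ ψ 1 0 ⊓ Wk XX ρ ψ 3 0 : Submodule ℂ V) = f := (hD 1 (by decide)).2.2.1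
    rw [← h1, split H.toHexa hψ (ivE5 H.toHexa)]
    exact sum_const0 _ _ _ (fun x hx => g_const H.toHexa hψ hx) rfl
  have hq2 : 1 ≤ q ^ 2 := Nat.one_le_pow _ _ (by omega)
  have hq3 : q ^ 3 = q ^ 2 * q := by ring
  rw [hn, hff] at hN
  obtain ⟨t, ht⟩ : ∃ t, q = t + 5 := ⟨q - 5, by omega⟩
  have e1 : q - 1 = t + 4 := by omega
  have e2 : q ^ 2 - 1 = t ^ 2 + 10 * t + 24 := by
    have : q ^ 2 = t ^ 2 + 10 * t + 25 := by rw [ht]; ring
    omega
  have e3 : q ^ 3 = t ^ 3 + 15 * t ^ 2 + 75 * t + 125 := by rw [ht]; ring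
  rcases Nat.lt_or_ge 1 n with hn2 | hn2
  · -- `n ≥ 2`
    have h3 : q ^ 3 + 1 ≤ finrank ℂ V := by
      obtain ⟨r, hr⟩ : ∃ r, n = r + 2 := ⟨n - 2, by omega⟩
      rw [hN, e1, e2, e3, hr, ht]
      have : (t ^ 2 + 10 * t + 24) * ((t + 5) * (r + 2)) + ((t + 4) * m + f0) =
          t ^ 3 + 15 * t ^ 2 + 75 * t + 125 + 1 + (t ^ 3 + 15 * t ^ 2 + 73 * t + 114 +
            (t ^ 2 + 10 * t + 24) * ((t + 5) * r) + ((t + 4) * m + f0)) := by ring
      rw [this]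
      exact Nat.le_add_right _ _
    exact ⟨fun _ => h3, by omega⟩
  have hn3 : n = 1 := by omega
  subst hn3
  rw [mul_one] at hn hN
  subst hn
  -- `m ≥ 1`
  have hm1 : 1 ≤ m := by
    by_contra hcon
    have h0 : m = 0 := by omega
    exact stepM0 (ρ := ρ) H.toHexa hψ hρ hX hq (f := f) (fun k hk => ⟨(hD k hk).1, (hD k hk).2.2.1⟩) h0
  have hNge : q ^ 3 - 1 ≤ finrank ℂ V := by
    obtain ⟨r, hr⟩ : ∃ r, m = r + 1 := ⟨m - 1, by omega⟩
    have : finrank ℂ V = t ^ 3 + 15 * t ^ 2 + 75 * t + 124 + ((t + 4) * r + f0) := by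
      rw [hN, e1, e2, hr, ht]
      ring
    rw [this, e3]
    omega
  refine ⟨fun h3 => ?_, hNge⟩
  have hq7 : 7 ≤ q := by omega
  by_contra hcon
  push Not at hcon
  -- `m = 1`, `f0 ≤ 1`
  have hm2 : m = 1 := by
    by_contra hne'
    obtain ⟨r, hr⟩ : ∃ r, m = r + 2 := ⟨m - 2, by omega⟩
    have : finrank ℂ V = t ^ 3 + 15 * t ^ 2 + 75 * t + 125 + 1 + (t + 2 + (t + 4) * r + f0) := by
      rw [hN, e1, e2, hr, ht]
      ring
    rw [this, e3] at hcon
    omega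
  have hNN : finrank ℂ V = q ^ 3 - 1 + f0 := by
    have : finrank ℂ V = t ^ 3 + 15 * t ^ 2 + 75 * t + 124 + f0 := by
      rw [hN, e1, e2, hm2, ht]
      ring
    rw [this, e3]
    omega
  have hf01 : f0 ≤ 1 := by omega
  have hDD : ∀ y z : F, (y ≠ 0 ∨ z ≠ 0) → finrank ℂ (Wk XX ρ ψ 1 y ⊓ Wk XX ρ ψ 3 z : Submodule ℂ V) = q :=
    (hD 1 (by decide)).1
  have hf : ∀ x : F, x ≠ 0 → finrank ℂ (Wk XX ρ ψ 1 0 ⊓ Wk XX ρ ψ 3 0 ⊓ Wk XX ρ ψ 5 x : Submodule ℂ V) = 1 :=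
    fun x hx => (g_const H.toHexa hψ hx).trans hm2
  obtain ⟨ω, hω, hω3⟩ := exists_omega h3
  have hω0 : ω ≠ 0 := by
    rintro rfl
    rw [zero_pow (by norm_num)] at hω3
    exact zero_ne_one hω3
  obtain ⟨c, hc'⟩ := H.tor ω 1 hω0 one_ne_zero
  have hc : ∀ k t, c * XX k t = XX k (ω ^ ci k * t) * c := by
    intro k t
    have := hc' k t
    rwa [_root_.one_zpow, mul_one] at this
  have hcen := center_bot hF
  have hodd : ∀ k : ZMod 12, k.val % 2 = 1 → ω ^ ci k = 1 := by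
    intro k hk
    have e3 : ω ^ (3 : ℤ) = 1 := by rw [zpow_ofNat, hω3]
    rcases odd_cases hk with rfl | rfl | rfl | rfl | rfl | rfl
    · exact e3
    · exact e3
    · exact zpow_zero ω
    · show ω ^ (-3 : ℤ) = 1
      rw [_root_.zpow_neg, e3, inv_one]
    · show ω ^ (-3 : ℤ) = 1
      rw [_root_.zpow_neg, e3, inv_one]
    · exact zpow_zero ω
  have hKc : Kc XX ≤ Subgroup.centralizer {c} := by
    rw [Kc, Subgroup.closure_le]
    rintro _ ⟨k, hk, a, rfl⟩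
    rw [SetLike.mem_coe, Subgroup.mem_centralizer_iff]
    rintro y rfl
    rw [hc, hodd k hk, one_mul]
  rcases Nat.eq_zero_or_pos f0 with h0 | h0
  · obtain ⟨ε, μ, hε, hμ, hchar⟩ := trace_c (ρ := ρ) H hψ hcen hDD h0 hf hω hω3 hc
    exact case_zero hq7 h3 ρ hε hμ hKc hchar (by rw [hNN, h0, add_zero])
  · have h1 : f0 = 1 := by omega
    obtain ⟨W, d, hW, hirr, hd1, hdq, hdim, hw⟩ := moduleW (ρ := ρ) H hψ hρ hX hF hDD h1 hf hω hω3 hc
    exact case_one hq7 ρ hψ hW hirr hd1 hdq hdim hw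

end Cfsg.Agent.H120.GTwo
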