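import Cfsg.Agent.H120.Common
import Cfsg.Agent.S1064
import Cfsg.Agent.S1077
import Cfsg.Agent.S1079
set_option linter.all false

/-!
# The subgroup `E₇(q)` of `E₈(q)`

`exists_seven` : a homomorphism from the presented group of type E₇ with kernel of order dividing `2`.
-/

set_option autoImplicit false
set_option linter.unusedSectionVars false

namespace Cfsg.Agent.H120.StSeven

open Cfsg.Lie Cfsg.Agent.ChevalleyStructure.Elts Cfsg.Agent.ChevalleyStructure.RootVec
  Cfsg.Agent.ChevalleyStructure.RootVecTab Cfsg.Agent.ChevalleyStructure.CoxeterGeomTypes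
  Cfsg.Agent.ChevalleyStructure Cfsg.Agent.ChevalleyStructure.StTheta Cfsg.Agent.ChevalleyStructure.StEmbed
  Cfsg.Agent.Nodes.RGDChev Cfsg.Agent.KFacts.En.Roots Cfsg.Agent.H120.ChevSys Cfsg.Agent.H120.LevTab
  Cfsg.Agent.H120.LevMath Cfsg.Agent.H120.SLHom Cfsg.Agent.H120.Gram Cfsg.Agent.H120.GramTab
  Cfsg.Agent.H120.LevInst Cfsg.Agent.OddHalf.SL.Defs Cfsg.Agent.H120.Common

universe u

variable (F : Type u) [Field F]

/-- the homomorphism -/
noncomputable def alpha : chevE7.SteinbergGroup F →* ↥(chevE8.group F) :=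
  (theta ty_E8.ty.inList F).comp (hom emb78 F)

theorem alpha_stGen {r : ℕ} (hr : r < chevE7.nroots) (t : F) :
    alpha F (chevE7.stGen F r t) = XX ty_E8 (vec chevE8 8 (ι78 r)) t := by
  apply Subtype.ext
  show ((theta ty_E8.ty.inList F (hom emb78 F (chevE7.stGen F r t)) : ↥(chevE8.group F)) : GL chevE8.Idx F) =
    XG ty_E8 (vec chevE8 8 (ι78 r)) t
  rw [hom_stGen emb78 hr, coe_theta, thetaGL_stGen, XG_vec ty_E8 (emb78.lt r hr)]

theorem sel78 : ∀ r < chevE7.nroots, sel chevE8 [7] (ι78 r) = true := by decide +kernel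

theorem mem78 {r : ℕ} (hr : r < chevE7.nroots) : vec chevE8 8 (ι78 r) ∈ PhiZ chevE8 8 [7] :=
  (sel_iff ty_E8 (by decide) (emb78.lt r hr)).1 (sel78 r hr)

/-- the image is not commutative -/
theorem not_comm : ∃ r < chevE7.nroots, ∃ s < chevE7.nroots,
    XX ty_E8 (vec chevE8 8 (ι78 r)) (1 : F) * XX ty_E8 (vec chevE8 8 (ι78 s)) (1 : F) ≠
      XX ty_E8 (vec chevE8 8 (ι78 s)) (1 : F) * XX ty_E8 (vec chevE8 8 (ι78 r)) (1 : F) := by
  have h1 : chevE7.simple 0 < chevE7.nroots := by decide +kernel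
  have h2 : chevE7.simple 2 < chevE7.nroots := by decide +kernel
  refine ⟨chevE7.simple 0, h1, chevE7.simple 2, h2, fun h => ?_⟩
  have h3 : bf chevE8 8 (vec chevE8 8 (ι78 (chevE7.simple 0))) (vec chevE8 8 (ι78 (chevE7.simple 2))) = -1 := by
    have h4 := gm_eq ty_E8 chkE8 (emb78.lt _ h1) (emb78.lt _ h2)
    have h5 : gm chevE8 gtE8 (ι78 (chevE7.simple 0)) (ι78 (chevE7.simple 2)) = 1 := by decide +kernel
    rw [h5] at h4
    push_cast at h4
    linarith
  obtain ⟨ε, hε, h6⟩ := comm1 (F := F) ty_E8 (mem78 h1).1 (mem78 h2).1 h3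
  have h7 := h6 1 1
  have h8 := congrArg Subtype.val h
  change XG ty_E8 _ _ * XG ty_E8 _ _ = XG ty_E8 _ _ * XG ty_E8 _ _ at h8
  rw [h8, mul_assoc (XG ty_E8 _ (ε * 1 * 1))] at h7
  have h9 : XG ty_E8 (vec chevE8 8 (ι78 (chevE7.simple 0)) + vec chevE8 8 (ι78 (chevE7.simple 2))) (ε * 1 * 1) = 1 :=
    (right_eq_mul.1 h7)
  obtain ⟨u, hu, hu'⟩ := add_mem ty_E8 (mem78 h1).1 (mem78 h2).1 h3
  rw [← hu', XG_vec ty_E8 hu, xG_eq_one_iff _ hu, mul_one, mul_one] at h9
  rcases hε with h | h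
  · rw [h9] at h; exact zero_ne_one h
  · rw [h9] at h
    exact one_ne_zero (neg_eq_zero.1 h.symm)

variable [Fintype F]

/-- **the subgroup of type E₇** -/
theorem card_range : ∃ κ : ℕ, κ ∣ 2 ∧ Nat.card (alpha F).range * κ = Fintype.card F ^ 63 *
    (Fintype.card F ^ 2 - 1) * (Fintype.card F ^ 6 - 1) * (Fintype.card F ^ 8 - 1) * (Fintype.card F ^ 10 - 1) *
    (Fintype.card F ^ 12 - 1) * (Fintype.card F ^ 14 - 1) * (Fintype.card F ^ 18 - 1) := by
  obtain ⟨θ, hθs, hθk, hθ⟩ := Cfsg.Agent.S1077.result (K := F) chevE7 ty_E7.ty.inList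
  have hsimple := (Cfsg.Agent.S1054.result (F := F) chevE7 (by simp)).1
  have hcent := Cfsg.Agent.S1079.result (K := F) rfl (chevE7, 2) (by simp)
  have hord := Cfsg.Agent.S1064.result (F := F) rfl
  change Nat.card (Subgroup.center (chevE7.SteinbergGroup F)) = _ at hcent
  have hker : (alpha F).ker ≤ Subgroup.center (chevE7.SteinbergGroup F) := by
    have hn : ((alpha F).ker.map θ).Normal := Subgroup.Normal.map inferInstance θ hθs
    rcases hn.eq_bot_or_eq_top with h | h
    · rw [Subgroup.map_eq_bot_iff] at h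
      rw [← hθk]
      exact h
    · exfalso
      obtain ⟨r, hr, s, hs, hne⟩ := not_comm F
      apply hne
      rw [← alpha_stGen F hr, ← alpha_stGen F hs]
      -- every element is a product of an element of the kernel and a central element
      have hfac : ∀ g : chevE7.SteinbergGroup F, ∃ z ∈ Subgroup.center (chevE7.SteinbergGroup F),
          alpha F g = alpha F z := by
        intro g
        have h1 : θ g ∈ (alpha F).ker.map θ := by rw [h]; exact Subgroup.mem_top _
        obtain ⟨k, hk, hk'⟩ := h1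
        refine ⟨k⁻¹ * g, ?_, ?_⟩
        · rw [← hθk, MonoidHom.mem_ker, map_mul, map_inv, hk', inv_mul_cancel]
        · rw [map_mul, map_inv, MonoidHom.mem_ker.1 hk, inv_one, one_mul]
      obtain ⟨z, hz, hz'⟩ := hfac (chevE7.stGen F r 1)
      rw [hz', ← map_mul, ← map_mul, Subgroup.mem_center_iff.1 hz]
  have h1 := Subgroup.card_dvd_of_le hker
  refine ⟨Nat.card (alpha F).ker, ?_, ?_⟩
  · rw [hcent] at h1
    exact h1.trans (Nat.gcd_dvd_left _ _)
  · have h2 : Nat.card (alpha F).range * Nat.card (alpha F).ker = Nat.card (chevE7.SteinbergGroup F) := by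
      rw [Subgroup.card_eq_card_quotient_mul_card_subgroup (alpha F).ker,
        Nat.card_congr (QuotientGroup.quotientKerEquivRange (alpha F)).toEquiv]
    have h3 : Nat.card (chevE7.SteinbergGroup F) = Nat.card ↥(chevE7.group F) *
        Nat.card (Subgroup.center (chevE7.SteinbergGroup F)) := by
      rw [← hθk, Subgroup.card_eq_card_quotient_mul_card_subgroup θ.ker,
        Nat.card_congr (QuotientGroup.quotientKerEquivOfSurjective θ hθs).toEquiv]
    rw [h2, h3, hcent, mul_comm]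
    exact hord

end Cfsg.Agent.H120.StSeven
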